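import Cfsg.Agent.CosetEnum.Suzuki.StepA
import Cfsg.Agent.CosetEnum.Suzuki.StepB
import Cfsg.Agent.CosetEnum.Suzuki.StepC
import Cfsg.Agent.CosetEnum.Suzuki.Simple

/-! The order and simplicity of the presented sporadic Suzuki group. -/

namespace Cfsg.Agent.CosetEnum.Suzuki

open Cfsg.Agent.CosetCert

/-- The order bound on the subgroup of index 1782. -/
theorem subgroup_bound :
    Finite ((Subgroup.closure {r | r ∈ SuzukiG.gensList}).map
      (PresentedGroup.mk (Cfsg.Spor.coxRelators Cfsg.Spor.Suz.edges ∪ {r | r ∈ Cfsg.Spor.Suz.extra}))) ∧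
    Nat.card ((Subgroup.closure {r | r ∈ SuzukiG.gensList}).map
      (PresentedGroup.mk (Cfsg.Spor.coxRelators Cfsg.Spor.Suz.edges ∪ {r | r ∈ Cfsg.Spor.Suz.extra}))) ≤
      416 * (280 * 2160) := by
  obtain ⟨g0, ginv, grel⟩ := presented_letters SuzukiG.valid
  set g : ℕ → Cfsg.Spor.Suz := SuzukiG.data.act PresentedGroup.of
  have hc := bound_base stepC_valid g g0 ginv
    (fun u hu => grel u ((by decide +kernel : ∀ u ∈ stepC.words, u ∈ SuzukiG.data.words) u hu)) rfl
  have hb := bound_step stepB_valid g g0 ginv
    (fun u hu => grel u ((by decide +kernel : ∀ u ∈ stepB.words, u ∈ SuzukiG.data.words) u hu))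
    stepC.letters (by decide +kernel) hc
  have ha := bound_step stepA_valid g g0 ginv
    (fun u hu => grel u ((by decide +kernel : ∀ u ∈ stepA.words, u ∈ SuzukiG.data.words) u hu))
    stepB.letters (by decide +kernel) hb
  have hle := subgroup_le_letters SuzukiG.valid stepA.letters (by decide +kernel)
  have := ha.1
  refine ⟨Finite.of_injective _ (Subgroup.inclusion_injective hle), ?_⟩
  exact (Nat.card_le_card_of_injective _ (Subgroup.inclusion_injective hle)).trans ha.2

/-- Order and simplicity. -/
theorem main : IsSimpleGroup Cfsg.Spor.Suz ∧ Nat.card Cfsg.Spor.Suz = 448345497600 := by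
  obtain ⟨h1, h2, -, -⟩ := simple_of_cert (M := 416 * (280 * 2160)) SuzukiG.valid
    SuzukiG.word_letters SuzukiG.base_letters simpleData subgroup_bound chain_valid
    (by decide +kernel) (by decide +kernel) intervals_valid (by decide +kernel) (by decide +kernel)
    (by decide +kernel) (by decide +kernel) (by decide +kernel) (by decide +kernel) (by decide +kernel)
    points_ok
  exact ⟨h1, h2.trans (by decide +kernel)⟩

end Cfsg.Agent.CosetEnum.Suzuki
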